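import Mathlib.Algebra.Homology.DerivedCategory.KInjective
import Mathlib.Algebra.Homology.DerivedCategory.TStructure
import Groth.Agent.CxRes.Basic

/-!
Injective amplitude: vanishing of `Hom_D(Y[0], X[i])` versus bounded complexes of injectives.
-/

set_option autoImplicit false

universe w v u

open CategoryTheory CategoryTheory.Limits ZeroObject

namespace Groth.Agent.InjAmp

variable {A : Type u} [Category.{v} A] [Abelian A] [HasDerivedCategory.{w} A]

/-- `Hom(Y[0], X[i]) = 0` for all `Y`. -/
def Van (X : DerivedCategory A) (i : ℤ) : Prop :=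
  ∀ (Y : A) (φ : (DerivedCategory.singleFunctor A 0).obj Y ⟶ X⟦i⟧), φ = 0

theorem Van.of_iso {X X' : DerivedCategory A} (e : X ≅ X') {i : ℤ} (h : Van X i) : Van X' i :=
  fun Y φ => by
    rw [← cancel_mono ((shiftFunctor _ i).map e.inv), zero_comp]
    exact h Y _

theorem q_map_eq_zero {K : CochainComplex A ℤ} {i : ℤ} (h : Van (DerivedCategory.Q.obj K) i)
    {Y : A} (f : (CochainComplex.singleFunctor A 0).obj Y ⟶ K⟦i⟧) : DerivedCategory.Q.map f = 0 := by
  rw [← cancel_mono ((DerivedCategory.Q.commShiftIso i).hom.app K), zero_comp]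
  exact h Y _

theorem isZero_homology {K : CochainComplex A ℤ} {i : ℤ} (h : Van (DerivedCategory.Q.obj K) i) :
    IsZero (K.homology i) := by
  let L := K⟦i⟧
  suffices IsZero (L.homology 0) from
    this.of_iso (((HomologicalComplex.homologyFunctor A (ComplexShape.up ℤ) 0).shiftIso i 0 i
      (by simp)).app K).symm
  let S := (CochainComplex.singleFunctor A 0).obj (L.cycles 0)
  let m : S ⟶ L := HomologicalComplex.mkHomFromSingle (L.iCycles 0) (fun j _ => L.iCycles_d 0 j)
  have h0 : HomologicalComplex.homologyMap m 0 = 0 := by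
    have := (DerivedCategory.homologyFunctor A 0).congr_map (q_map_eq_zero h m)
    rw [Functor.map_zero] at this
    have e := (DerivedCategory.homologyFunctorFactors A 0).hom.naturality m
    simp only [Functor.comp_map] at e
    rw [this, zero_comp] at e
    haveI : IsIso ((DerivedCategory.homologyFunctorFactors A 0).hom.app S) := inferInstance
    exact (cancel_epi ((DerivedCategory.homologyFunctorFactors A 0).hom.app S)).1
      (e.symm.trans comp_zero.symm)
  haveI : IsIso (S.iCycles 0) := HomologicalComplex.isIso_iCycles _ 0 1 (by simp) (by simp [S])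
  have hc : HomologicalComplex.cyclesMap m 0 =
      S.iCycles 0 ≫ (HomologicalComplex.singleObjXSelf (ComplexShape.up ℤ) 0 (L.cycles 0)).hom := by
    rw [← cancel_mono (L.iCycles 0), HomologicalComplex.cyclesMap_i, Category.assoc,
      HomologicalComplex.mkHomFromSingle_f]
    rfl
  haveI : IsIso (HomologicalComplex.cyclesMap m 0) := by rw [hc]; infer_instance
  have hπ := HomologicalComplex.homologyπ_naturality m 0
  rw [h0, comp_zero] at hπ
  rw [IsZero.iff_id_eq_zero, ← cancel_epi (L.homologyπ 0),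
    ← cancel_epi (HomologicalComplex.cyclesMap m 0), Category.comp_id, comp_zero, comp_zero, ← hπ]

theorem exists_lift_zero {K : CochainComplex A ℤ} [K.IsKInjective] {i : ℤ}
    (h : Van (DerivedCategory.Q.obj K) i) {Y : A} (y : Y ⟶ (K⟦i⟧).X 0)
    (hy : ∀ j, (ComplexShape.up ℤ).Rel 0 j → y ≫ (K⟦i⟧).d 0 j = 0) :
    ∃ z : Y ⟶ (K⟦i⟧).X (-1), z ≫ (K⟦i⟧).d (-1) 0 = y := by
  let S := (CochainComplex.singleFunctor A 0).obj Y
  let m : S ⟶ K⟦i⟧ := HomologicalComplex.mkHomFromSingle y hy
  haveI : (K⟦i⟧).IsKInjective := inferInstance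
  have e : (HomotopyCategory.quotient A (ComplexShape.up ℤ)).map m = 0 := by
    apply (CochainComplex.IsKInjective.Qh_map_bijective _ (K⟦i⟧)).1
    rw [Functor.map_zero]
    have := NatIso.naturality_1 (DerivedCategory.quotientCompQhIso A) m
    rw [q_map_eq_zero h m] at this
    rw [← cancel_mono ((DerivedCategory.quotientCompQhIso A).hom.app (K⟦i⟧)),
      ← cancel_epi ((DerivedCategory.quotientCompQhIso A).inv.app S), zero_comp, comp_zero]
    exact this
  have H := HomotopyCategory.homotopyOfEq m 0 (e.trans (Functor.map_zero _ _ _).symm)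
  refine ⟨(HomologicalComplex.singleObjXSelf (ComplexShape.up ℤ) 0 Y).inv ≫ H.hom 0 (-1), ?_⟩
  have c := H.comm 0
  have hd : S.d 0 1 = 0 := HomologicalComplex.single_obj_d _ _ _ _ _
  rw [dNext_eq _ (show (ComplexShape.up ℤ).Rel 0 1 from rfl),
    prevD_eq _ (show (ComplexShape.up ℤ).Rel (-1) 0 by simp),
    hd, zero_comp, zero_add, HomologicalComplex.zero_f, add_zero,
    HomologicalComplex.mkHomFromSingle_f] at c
  exact (Category.assoc _ _ _).trans ((congrArg _ c.symm).trans (Iso.inv_hom_id_assoc _ _))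

theorem exists_lift {K : CochainComplex A ℤ} [K.IsKInjective] {i : ℤ}
    (h : Van (DerivedCategory.Q.obj K) i) (p q : ℤ) (hq : q = 0 + i) (hp : p = -1 + i) {Y : A}
    (y : Y ⟶ K.X q) (hy : y ≫ K.d q (q + 1) = 0) : ∃ z : Y ⟶ K.X p, z ≫ K.d p q = y := by
  subst hq hp
  obtain ⟨z, hz⟩ := exists_lift_zero h (Y := Y) y (fun j hj => by
    obtain rfl : (0 : ℤ) + 1 = j := hj
    rw [CochainComplex.shiftFunctor_obj_d']
    have : y ≫ K.d (0 + i) (0 + 1 + i) = 0 := by
      rw [show (0 : ℤ) + 1 + i = 0 + i + 1 by ring]; exact hy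
    exact (Linear.comp_units_smul _ _ _).trans ((congrArg (i.negOnePow • ·) this).trans (smul_zero _)))
  refine ⟨i.negOnePow • z, ?_⟩
  refine (Linear.units_smul_comp _ _ _).trans (Eq.trans ?_ hz)
  exact (Linear.comp_units_smul _ _ _).symm

theorem exists_trunc {K : CochainComplex A ℤ} (a b : ℤ) [K.IsStrictlyGE a]
    (hK : ∀ n, Injective (K.X n)) (hv : ∀ i, b < i → Van (DerivedCategory.Q.obj K) i) :
    QuasiIso (K.ιTruncLE b) ∧ ∀ n, Injective ((K.truncLE b).X n) := by
  haveI : ∀ n, Injective (K.X n) := hK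
  haveI := CochainComplex.isKInjective_of_injective K a
  haveI : K.IsLE b := (CochainComplex.isLE_iff K b).2 fun i hi =>
    (HomologicalComplex.exactAt_iff_isZero_homology _ _).2 (isZero_homology (hv i hi))
  refine ⟨inferInstance, fun n => ?_⟩
  rcases lt_trichotomy n b with hn | rfl | hn
  · exact Injective.of_iso (K.truncLEXIso b n hn).symm inferInstance
  · obtain ⟨z, hz⟩ := exists_lift (hv (n + 1) (by omega)) n (n + 1) (by ring) (by ring)
      (K.iCycles (n + 1)) (K.iCycles_d _ _)
    have hr : (𝟙 (K.X n) - K.toCycles n (n + 1) ≫ z) ≫ K.d n (n + 1) = 0 := by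
      rw [Preadditive.sub_comp, Category.assoc, hz, K.toCycles_i, Category.id_comp, sub_self]
    refine Injective.of_iso (K.truncLEXIsoCycles n).symm ?_
    have : K.iCycles n ≫ K.liftCycles (𝟙 (K.X n) - K.toCycles n (n + 1) ≫ z) (n + 1)
        (by simp) hr = 𝟙 _ := by
      rw [← cancel_mono (K.iCycles n), Category.assoc, K.liftCycles_i, Preadditive.comp_sub,
        Category.comp_id, Category.id_comp]
      have : K.iCycles n ≫ K.toCycles n (n + 1) = 0 := by
        rw [← cancel_mono (K.iCycles (n + 1)), Category.assoc, K.toCycles_i, K.iCycles_d, zero_comp]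
      rw [reassoc_of% this, zero_comp, sub_zero]
    exact Retract.injective ⟨_, _, this⟩
  · exact (CochainComplex.isZero_of_isStrictlyLE (K.truncLE b) b n hn).injective

theorem van_of_bounded {I : CochainComplex A ℤ} (a b : ℤ) [I.IsStrictlyGE a] [I.IsStrictlyLE b]
    (hI : ∀ n, Injective (I.X n)) {i : ℤ} (hi : i < a ∨ b < i) :
    Van (DerivedCategory.Q.obj I) i := by
  haveI : ∀ n, Injective (I.X n) := hI
  haveI := CochainComplex.isKInjective_of_injective I a
  intro Y φ
  haveI : (I⟦i⟧).IsKInjective := inferInstance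
  obtain ⟨g, hg⟩ := (CochainComplex.IsKInjective.Qh_map_bijective
    ((HomotopyCategory.quotient A _).obj ((CochainComplex.singleFunctor A 0).obj Y)) (I⟦i⟧)).2
      ((DerivedCategory.quotientCompQhIso A).hom.app _ ≫
        φ ≫ (DerivedCategory.Q.commShiftIso i).inv.app I ≫
        (DerivedCategory.quotientCompQhIso A).inv.app _)
  obtain ⟨g, rfl⟩ := (HomotopyCategory.quotient A _).map_surjective g
  have : g = 0 := by
    refine HomologicalComplex.from_single_hom_ext ?_
    exact IsZero.eq_of_tgt (by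
      rcases hi with hi | hi
      · exact CochainComplex.isZero_of_isStrictlyGE I a (0 + i) (by omega)
      · exact CochainComplex.isZero_of_isStrictlyLE I b (0 + i) (by omega)) _ _
  rw [this, Functor.map_zero, Functor.map_zero] at hg
  rw [← cancel_mono ((DerivedCategory.Q.commShiftIso i).inv.app I), zero_comp]
  have e := hg.symm
  haveI : IsIso ((DerivedCategory.quotientCompQhIso A).hom.app
      ((CochainComplex.singleFunctor A 0).obj Y)) := inferInstance
  rw [← cancel_mono ((DerivedCategory.quotientCompQhIso A).inv.app (I⟦i⟧)), zero_comp,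
    Category.assoc]
  refine (cancel_epi ((DerivedCategory.quotientCompQhIso A).hom.app
      ((CochainComplex.singleFunctor A 0).obj Y))).1 (Eq.trans ?_ comp_zero.symm)
  exact e

theorem isGE_of_van {X : DerivedCategory A} {a : ℤ} (h : ∀ i, i < a → Van X i) : X.IsGE a := by
  obtain ⟨K, ⟨e⟩⟩ : ∃ K, Nonempty (DerivedCategory.Q.obj K ≅ X) :=
    ⟨_, ⟨DerivedCategory.Q.objObjPreimageIso X⟩⟩
  rw [DerivedCategory.isGE_iff]
  intro i hi
  exact (isZero_homology ((h i hi).of_iso e.symm)).of_iso
    ((DerivedCategory.homologyFunctor A i).mapIso e.symm ≪≫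
      (DerivedCategory.homologyFunctorFactors A i).app K)

theorem exists_bounded [EnoughInjectives A] (X : DerivedCategory A) (a b : ℤ) [X.IsGE a]
    (h : ∀ i, b < i → Van X i) :
    ∃ I : CochainComplex A ℤ, I.IsStrictlyGE a ∧ I.IsStrictlyLE b ∧ (∀ n, Injective (I.X n)) ∧
      Nonempty (DerivedCategory.Q.obj I ≅ X) := by
  obtain ⟨K₀, _, ⟨e⟩⟩ := DerivedCategory.exists_iso_Q_obj_of_isGE X a
  obtain ⟨K, α, hK', hK, -, hα⟩ := CxRes.exists_resolution (fun J : A => Injective J)
    ⟨0, isZero_zero A, (isZero_zero A).injective⟩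
    (fun J => ⟨Injective.under J, Injective.ι J, inferInstance, inferInstance⟩) K₀ a
  let e' : DerivedCategory.Q.obj K ≅ X := (asIso (DerivedCategory.Q.map α)).symm ≪≫ e.symm
  obtain ⟨hq, hinj⟩ := exists_trunc a b hK (fun i hi => (h i hi).of_iso e'.symm)
  refine ⟨K.truncLE b, (CochainComplex.isStrictlyGE_iff _ _).2 fun n hn => ?_, inferInstance, hinj,
    ⟨asIso (DerivedCategory.Q.map (K.ιTruncLE b)) ≪≫ e'⟩⟩
  haveI : Mono ((K.ιTruncLE b).f n) := inferInstanceAs
    (Mono ((HomologicalComplex.ιTruncLE K (ComplexShape.embeddingUpIntLE b)).f n))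
  exact IsZero.of_mono ((K.ιTruncLE b).f n) (K.isZero_of_isStrictlyGE a n hn)

end Groth.Agent.InjAmp
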